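import Groth.Prelude.Def_SGA7a
import Mathlib.FieldTheory.IsSepClosed
import Mathlib.FieldTheory.Galois.Infinite
import Mathlib.FieldTheory.Galois.Basic
import Mathlib.FieldTheory.IntermediateField.Adjoin.Basic
import Mathlib.RingTheory.DiscreteValuationRing.Basic
import Mathlib.RingTheory.Polynomial.Eisenstein.Basic
import Mathlib.RingTheory.Polynomial.GaussLemma
import Mathlib.RingTheory.RootsOfUnity.EnoughRootsOfUnity
import Mathlib.RingTheory.RootsOfUnity.AlgebraicallyClosed
import Mathlib.GroupTheory.FiniteAbelian.Duality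
import Mathlib.RingTheory.DedekindDomain.IntegralClosure
import Mathlib.RingTheory.RamificationInertia.Basic

/-!
# Tame Kummer extensions of a discretely valued field equal to its inertia field
-/

universe u

open Polynomial IntermediateField

namespace Groth.Agent.TameKummer

/-- The ambient data. -/
structure Data (R K Ω : Type u) [CommRing R] [IsDomain R] [IsDiscreteValuationRing R] [Field K]
    [Algebra R K] [IsFractionRing R K] [Field Ω] [Algebra K Ω] (W : ValuationSubring Ω) (r : ℕ) :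
    Prop where
  lies : SGA7.LiesOver K R W
  inertia : ∀ σ : Ω ≃ₐ[K] Ω, SGA7.IsInertia W σ
  pos : 0 < r
  unit : (r : IsLocalRing.ResidueField R) ≠ 0

variable {R K Ω : Type u} [CommRing R] [IsDomain R] [IsDiscreteValuationRing R] [Field K]
  [Algebra R K] [IsFractionRing R K] [Field Ω] [Algebra K Ω] [IsSepClosure K Ω]
  {W : ValuationSubring Ω} {r : ℕ}

variable (R K Ω) in
/-- `R → Ω`. -/
noncomputable abbrev toSep : R →+* Ω := (algebraMap K Ω).comp (algebraMap R K)

omit [IsSepClosure K Ω] in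
theorem Data.val_unit (D : Data R K Ω W r) {a : R} (ha : IsUnit a) : W.valuation ((toSep R K Ω) a) = 1 := by
  have h1 : (toSep R K Ω) a ∈ W := D.lies.1 a
  refine (W.valuation_eq_one_iff ⟨_, h1⟩).mp ⟨⟨⟨_, h1⟩, ⟨_, D.lies.1 ↑ha.unit⁻¹⟩, ?_, ?_⟩, rfl⟩ <;>
  · apply Subtype.ext
    show (toSep R K Ω) _ * (toSep R K Ω) _ = 1
    rw [← map_mul]
    simp [IsUnit.mul_val_inv, IsUnit.val_inv_mul]

omit [IsSepClosure K Ω] in
theorem Data.val_natCast (D : Data R K Ω W r) : W.valuation (r : Ω) = 1 := by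
  have hu : IsUnit (r : R) := by
    by_contra h
    refine D.unit ?_
    rw [← map_natCast (IsLocalRing.residue R), IsLocalRing.residue_eq_zero_iff]
    exact h
  simpa using D.val_unit hu

omit [IsSepClosure K Ω] in
theorem Data.natCast_ne_zero (D : Data R K Ω W r) : (r : Ω) ≠ 0 := fun h => by
  simpa [h] using D.val_natCast

omit [IsSepClosure K Ω] in
theorem Data.root_eq_one (D : Data R K Ω W r) {ζ : Ω} (hz : ζ ^ r = 1)
    (h : W.valuation (ζ - 1) < 1) : ζ = 1 := by
  by_contra hne
  have hs : ∑ i ∈ Finset.range r, ζ ^ i = 0 := by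
    have := geom_sum_mul ζ r
    rw [hz, sub_self] at this
    exact (mul_eq_zero.mp this).resolve_right (sub_ne_zero.mpr hne)
  have hzW : W.valuation ζ ≤ 1 := by
    have e : ζ = (ζ - 1) + 1 := by ring
    rw [e]
    exact (Valuation.map_add _ _ _).trans (max_le h.le (by rw [map_one]))
  have hlt : W.valuation (∑ i ∈ Finset.range r, (ζ ^ i - 1)) < 1 :=
    Valuation.map_sum_lt _ one_ne_zero fun i _ => by
      rw [← mul_geom_sum, map_mul]
      refine lt_of_le_of_lt (mul_le_mul_right (?_ : W.valuation (∑ j ∈ Finset.range i, ζ ^ j) ≤ 1) _) (by simpa using h)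
      exact Valuation.map_sum_le _ fun j _ => by rw [map_pow]; exact pow_le_one₀ zero_le' hzW
  rw [Finset.sum_sub_distrib, hs, zero_sub, Valuation.map_neg, Finset.sum_const, Finset.card_range,
    nsmul_eq_mul, mul_one, D.val_natCast] at hlt
  exact lt_irrefl _ hlt

omit [IsSepClosure K Ω] in
theorem Data.val_root (D : Data R K Ω W r) {x : Ω} (h : W.valuation (x ^ r) = 1) :
    W.valuation x = 1 := by
  rw [map_pow] at h
  rcases lt_trichotomy (W.valuation x) 1 with hl | he | hl
  · exact absurd h (pow_lt_one₀ zero_le' hl D.pos.ne').ne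
  · exact he
  · exact absurd h (one_lt_pow₀ hl D.pos.ne').ne'

/-- An element of valuation one whose `r`-th power is in `K` is in `K`. -/
theorem Data.mem_range_of_pow (D : Data R K Ω W r) {x : Ω} (hx : W.valuation x = 1) {c : K}
    (hc : x ^ r = algebraMap K Ω c) : x ∈ Set.range (algebraMap K Ω) := by
  have : IsGalois K Ω := IsSepClosure.isGalois
  refine (InfiniteGalois.mem_range_algebraMap_iff_fixed x).mpr fun σ => ?_
  have hx0 : x ≠ 0 := fun h => by simp [h] at hx
  have hxW : x ∈ W := W.mem_of_valuation_le_one x hx.le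
  have hz : (σ x / x) ^ r = 1 := by
    rw [div_pow, ← map_pow, hc, σ.commutes, div_self]
    rw [← hc]; exact pow_ne_zero _ hx0
  have hlt : W.valuation (σ x / x - 1) < 1 := by
    rw [div_sub_one hx0, map_div₀, hx, div_one]
    exact (D.inertia σ x hxW).2
  have := D.root_eq_one hz hlt
  rwa [div_eq_one_iff_eq hx0] at this

theorem Data.exists_primitiveRoot (D : Data R K Ω W r) :
    ∃ ζ : K, IsPrimitiveRoot ζ r := by
  have : IsSepClosed Ω := IsSepClosure.sep_closed K
  haveI : NeZero (r : Ω) := ⟨D.natCast_ne_zero⟩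
  obtain ⟨z, hz⟩ := HasEnoughRootsOfUnity.exists_primitiveRoot Ω r
  obtain ⟨c, hc⟩ := D.mem_range_of_pow (x := z) (D.val_root (by rw [hz.pow_eq_one, map_one]))
    (c := 1) (by rw [hz.pow_eq_one, map_one])
  exact ⟨c, IsPrimitiveRoot.of_map_of_injective (f := algebraMap K Ω) (hc ▸ hz) (algebraMap K Ω).injective⟩

/-- Every element with `r`-th power in `K` is in the Kummer field. -/
theorem Data.mem_adjoin (D : Data R K Ω W r) {ϖ : R} (hϖ : Irreducible ϖ) {P : Ω} (hP : P ^ r = (toSep R K Ω) ϖ)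
    {x : Ω} (hx : x ^ r ∈ Set.range (algebraMap K Ω)) : x ∈ K⟮P⟯ := by
  by_cases hx0 : x = 0
  · rw [hx0]; exact zero_mem _
  obtain ⟨c, hc⟩ := hx
  have hc0 : c ≠ 0 := fun h => by
    rw [h, map_zero] at hc; exact pow_ne_zero _ hx0 hc.symm
  obtain ⟨num, den, hden, hcd⟩ := IsFractionRing.div_surjective (A := R) c
  have hden0 : den ≠ 0 := nonZeroDivisors.ne_zero hden
  have hnum0 : num ≠ 0 := fun h => hc0 (by rw [← hcd, h, map_zero, zero_div])
  obtain ⟨a, u, hu⟩ := IsDiscreteValuationRing.eq_unit_mul_pow_irreducible hnum0 hϖ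
  obtain ⟨b, v, hv⟩ := IsDiscreteValuationRing.eq_unit_mul_pow_irreducible hden0 hϖ
  have hP0 : P ≠ 0 := fun h => by
    rw [h, zero_pow D.pos.ne'] at hP
    exact hϖ.ne_zero ((injective_iff_map_eq_zero (toSep R K Ω)).mp
      ((algebraMap K Ω).injective.comp (IsFractionRing.injective R K)) _ hP.symm)
  let y := x * P ^ b / P ^ a
  have hy : y ^ r = algebraMap K Ω (algebraMap R K (u * ↑v⁻¹)) := by
    simp only [y, div_pow, mul_pow, ← pow_mul, mul_comm a, mul_comm b]
    rw [pow_mul, pow_mul, hP, ← hc, ← hcd, hu, hv]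
    simp only [RingHom.coe_comp, Function.comp_apply, map_mul, map_pow, map_div₀, map_units_inv]
    have h1 : algebraMap K Ω (algebraMap R K ϖ) ≠ 0 := by
      simp [hϖ.ne_zero]
    have h2 : algebraMap K Ω (algebraMap R K (v : R)) ≠ 0 := by simp
    field_simp
    rw [← map_mul, mul_one_div_cancel (by simp), map_one]
  obtain ⟨d, hd⟩ := D.mem_range_of_pow (D.val_root (x := y) (by
    rw [hy]; exact D.val_unit (u * v⁻¹).isUnit)) hy
  have e : x = y * P ^ a / P ^ b := by
    simp only [y]
    field_simp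
  rw [e, ← hd]
  exact div_mem (mul_mem (IntermediateField.algebraMap_mem _ d) (pow_mem (mem_adjoin_simple_self K P) a))
    (pow_mem (mem_adjoin_simple_self K P) b)

theorem Data.finrank_adjoin (D : Data R K Ω W r) {ϖ : R} (hϖ : Irreducible ϖ) {P : Ω}
    (hP : P ^ r = (toSep R K Ω) ϖ) : Module.finrank K K⟮P⟯ = r := by
  have hm : (X ^ r - C ϖ : R[X]).Monic := monic_X_pow_sub_C ϖ D.pos.ne'
  have hdeg : (X ^ r - C ϖ : R[X]).natDegree = r := natDegree_X_pow_sub_C
  have he : (X ^ r - C ϖ : R[X]).IsEisensteinAt (IsLocalRing.maximalIdeal R) := by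
    rw [hϖ.maximalIdeal_eq]
    refine ⟨?_, fun {i} hi => ?_, ?_⟩
    · rw [hm.leadingCoeff, Ideal.mem_span_singleton]
      exact fun h => hϖ.not_isUnit (isUnit_of_dvd_one h)
    · rw [hdeg] at hi
      rw [coeff_sub, coeff_X_pow, if_neg hi.ne, zero_sub, neg_mem_iff, coeff_C]
      split_ifs
      · exact Ideal.mem_span_singleton_self _
      · exact zero_mem _
    · rw [coeff_sub, coeff_X_pow, if_neg D.pos.ne, zero_sub, coeff_C_zero, neg_mem_iff,
        Ideal.span_singleton_pow, Ideal.mem_span_singleton]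
      rintro ⟨c, hc⟩
      refine hϖ.not_isUnit (IsUnit.of_mul_eq_one (b := c) ?_)
      exact mul_left_cancel₀ hϖ.ne_zero (by rw [← mul_assoc, ← sq, ← hc, mul_one])
  have hirr : Irreducible ((X ^ r - C ϖ : R[X]).map (algebraMap R K)) :=
    (hm.irreducible_iff_irreducible_map_fraction_map (K := K)).mp
      (he.irreducible (IsLocalRing.maximalIdeal.isMaximal R).isPrime hm.isPrimitive (by rw [hdeg]; exact D.pos))
  have hroot : Polynomial.aeval P ((X ^ r - C ϖ : R[X]).map (algebraMap R K)) = 0 := by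
    simp [hP]
  have hmin := minpoly.eq_of_irreducible_of_monic hirr hroot (hm.map _)
  rw [adjoin.finrank ⟨_, hm.map (algebraMap R K), hroot⟩, ← hmin, hm.natDegree_map, hdeg]

theorem Data.isGalois_adjoin (D : Data R K Ω W r) {ϖ : R} (hϖ : Irreducible ϖ) {P : Ω}
    (hP : P ^ r = (toSep R K Ω) ϖ) : IsGalois K K⟮P⟯ := by
  have : IsGalois K Ω := IsSepClosure.isGalois
  haveI : Normal K K⟮P⟯ := by
    rw [IntermediateField.normal_iff_forall_map_le']
    intro σ
    rw [adjoin_map, Set.image_singleton, adjoin_simple_le_iff]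
    refine D.mem_adjoin hϖ hP ⟨algebraMap R K ϖ, ?_⟩
    rw [← map_pow]
    simp [hP]
  exact { }

/-- The subfield generated contains every Galois extension of degree `r`. -/
theorem Data.le_adjoin (D : Data R K Ω W r) {ϖ : R} (hϖ : Irreducible ϖ) {P : Ω} (hP : P ^ r = (toSep R K Ω) ϖ)
    (L : IntermediateField K Ω) (hL : Module.finrank K L = r) [IsGalois K L] : L ≤ K⟮P⟯ := by
  classical
  have : IsGalois K Ω := IsSepClosure.isGalois
  haveI : FiniteDimensional K L := Module.finite_of_finrank_pos (hL ▸ D.pos)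
  obtain ⟨ζ, hζ⟩ := D.exists_primitiveRoot
  haveI : NeZero r := ⟨D.pos.ne'⟩
  have hr0 : (r : L) ≠ 0 := fun h => D.natCast_ne_zero (by
    simpa using congrArg (algebraMap L Ω) h)
  have hcard : Nat.card (L ≃ₐ[K] L) = r := by rw [IsGalois.card_aut_eq_finrank, hL]
  have lift : ∀ g : L ≃ₐ[K] L, ∃ σ : Ω ≃ₐ[K] Ω, ∀ x : L, (g x : Ω) = σ x := fun g => by
    obtain ⟨σ, hσ⟩ := AlgEquiv.restrictNormalHom_surjective (F := K) (K₁ := L) (E := Ω) g
    exact ⟨σ, fun x => by rw [← hσ]; exact (AlgEquiv.restrictNormal_commutes σ L x)⟩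
  have stable : ∀ (σ : Ω ≃ₐ[K] Ω) (a : Ω), a ∈ W → W.valuation (σ a) ≤ 1 := fun σ a ha =>
    (W.valuation_le_one_iff _).mpr (D.inertia σ a ha).1
  have hval : ∀ (g : L ≃ₐ[K] L) (y : L), y ≠ 0 → W.valuation ((g y : Ω) / (y : Ω)) = 1 := by
    have key : ∀ (g : L ≃ₐ[K] L) (y : L), y ≠ 0 → ¬ W.valuation ((g y : Ω) / (y : Ω)) < 1 := by
      intro g y hy h
      obtain ⟨σ, hσ⟩ := lift g
      have h' : ∀ m, 0 < m → W.valuation (((g ^ m) y : Ω) / (y : Ω)) < 1 := by
        intro m hm
        induction hm with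
        | refl => simpa using h
        | @step m _ ih =>
          rw [pow_succ', AlgEquiv.mul_apply]
          have hy' : (y : Ω) ≠ 0 := by simpa using hy
          have hgy : (g y : Ω) ≠ 0 := by simpa using hy
          have e : (g ((g ^ m) y) : Ω) / (y : Ω) =
              σ (((g ^ m) y : Ω) / (y : Ω)) * ((g y : Ω) / (y : Ω)) := by
            rw [map_div₀, ← hσ, ← hσ]
            field_simp
          rw [e, map_mul]
          exact lt_of_le_of_lt (mul_le_mul_left (stable σ _ (W.mem_of_valuation_le_one _ ih.le)) _)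
            (by simpa using h)
      have := h' _ (Nat.card_pos (α := L ≃ₐ[K] L))
      rw [pow_card_eq_one', AlgEquiv.one_apply, div_self (by simpa using hy), map_one] at this
      exact lt_irrefl _ this
    intro g y hy
    refine le_antisymm ?_ (not_lt.mp (key g y hy))
    by_contra hlt
    rw [not_le] at hlt
    have hgy : g y ≠ 0 := by simpa using hy
    have h2 := key g⁻¹ (g y) hgy
    rw [← AlgEquiv.mul_apply, inv_mul_cancel, AlgEquiv.one_apply] at h2
    apply h2
    rw [← inv_div, map_inv₀]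
    exact inv_lt_one_of_one_lt₀ hlt
  -- the tame character is multiplicative and takes values in an abelian group
  have hmul : ∀ (g g' : L ≃ₐ[K] L) (y : L), y ≠ 0 →
      W.valuation (((g * g') y : Ω) / (y : Ω) - ((g y : Ω) / (y : Ω)) * ((g' y : Ω) / (y : Ω))) < 1 := by
    intro g g' y hy
    obtain ⟨σ, hσ⟩ := lift g
    have hy' : (y : Ω) ≠ 0 := by simpa using hy
    have hgy : (g y : Ω) ≠ 0 := by simpa using hy
    have e : ((g * g') y : Ω) / (y : Ω) - ((g y : Ω) / (y : Ω)) * ((g' y : Ω) / (y : Ω)) =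
        (σ ((g' y : Ω) / (y : Ω)) - (g' y : Ω) / (y : Ω)) * ((g y : Ω) / (y : Ω)) := by
      rw [map_div₀, ← hσ, ← hσ, AlgEquiv.mul_apply]
      field_simp
    rw [e, map_mul, hval g y hy, mul_one]
    exact (D.inertia σ _ (W.mem_of_valuation_le_one _ (hval g' y hy).le)).2
  have hcongr : ∀ (g g' : L ≃ₐ[K] L) (y : L), y ≠ 0 →
      W.valuation (((g * g') y : Ω) / (y : Ω) - ((g' * g) y : Ω) / (y : Ω)) < 1 := by
    intro g g' y hy
    have e : ((g * g') y : Ω) / (y : Ω) - ((g' * g) y : Ω) / (y : Ω) =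
        (((g * g') y : Ω) / (y : Ω) - ((g y : Ω) / (y : Ω)) * ((g' y : Ω) / (y : Ω))) -
        (((g' * g) y : Ω) / (y : Ω) - ((g' y : Ω) / (y : Ω)) * ((g y : Ω) / (y : Ω))) := by ring
    rw [e]
    exact lt_of_le_of_lt (Valuation.map_sub _ _ _) (max_lt (hmul g g' y hy) (hmul g' g y hy))
  have hpow : ∀ g : L ≃ₐ[K] L, g ^ r = 1 := fun g => hcard ▸ pow_card_eq_one'
  -- commutativity
  have hcomm : ∀ g g' : L ≃ₐ[K] L, g * g' = g' * g := by
    intro g g'
    by_contra hne
    obtain ⟨c, hc_def⟩ : ∃ c, c = g * g' * (g' * g)⁻¹ := ⟨_, rfl⟩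
    have hc : c ≠ 1 := fun h => hne (mul_inv_eq_one.mp (hc_def ▸ h))
    obtain ⟨x, hx⟩ : ∃ x : L, c x ≠ x := by
      by_contra! h; exact hc (AlgEquiv.ext h)
    let e : ℕ → L := fun k => ∑ j ∈ Finset.range r, algebraMap K L ((ζ ^ k) ^ j) * (c ^ j) x
    have hce : ∀ k, c (e k) * algebraMap K L (ζ ^ k) = e k := by
      intro k
      simp only [e, map_sum, map_mul, AlgEquiv.commutes, Finset.sum_mul]
      have e1 : ∀ j, algebraMap K L ((ζ ^ k) ^ j) * c ((c ^ j) x) * algebraMap K L (ζ ^ k) =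
          algebraMap K L ((ζ ^ k) ^ (j + 1)) * (c ^ (j + 1)) x := fun j => by
        rw [pow_succ' c, AlgEquiv.mul_apply, pow_succ (ζ ^ k), map_mul]; ring
      simp only [e1]
      refine add_right_cancel (b := algebraMap K L ((ζ ^ k) ^ 0) * (c ^ 0) x) ?_
      rw [← Finset.sum_range_succ' (fun j => algebraMap K L ((ζ ^ k) ^ j) * (c ^ j) x), Finset.sum_range_succ]
      congr 1
      rw [show (ζ ^ k) ^ r = 1 by rw [← pow_mul, mul_comm, pow_mul, hζ.pow_eq_one, one_pow],
        hpow, pow_zero, pow_zero]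
    obtain ⟨k, hk, hk0, hek⟩ : ∃ k < r, k ≠ 0 ∧ e k ≠ 0 := by
      by_contra! h
      have hsum : ∑ k ∈ Finset.range r, e k = (r : L) * x := by
        simp only [e]
        rw [Finset.sum_comm, Finset.sum_eq_single 0]
        · simp
        · intro j hj hj0
          rw [← Finset.sum_mul, ← map_sum]
          have hne1 : ζ ^ j ≠ 1 := hζ.pow_ne_one_of_pos_of_lt hj0 (Finset.mem_range.mp hj)
          have hg : ∑ k ∈ Finset.range r, (ζ ^ k) ^ j = 0 := by
            simp_rw [← pow_mul, mul_comm _ j, pow_mul]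
            have := geom_sum_mul (ζ ^ j) r
            rw [show (ζ ^ j) ^ r = 1 by rw [← pow_mul, mul_comm, pow_mul, hζ.pow_eq_one, one_pow],
              sub_self] at this
            exact (mul_eq_zero.mp this).resolve_right (sub_ne_zero.mpr hne1)
          rw [hg, map_zero, zero_mul]
        · exact fun h => absurd (Finset.mem_range.mpr D.pos) h
      rw [Finset.sum_eq_single 0 (fun k hk hk0 => h k (Finset.mem_range.mp hk) hk0)
        (fun h => absurd (Finset.mem_range.mpr D.pos) h)] at hsum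
      have h0 := hce 0
      rw [pow_zero, map_one, mul_one, hsum, map_mul, map_natCast] at h0
      exact hx (mul_left_cancel₀ hr0 h0)
    -- the eigenvalue is congruent to one
    let z : L := c (e k) / e k
    have hz : z ^ r = 1 ∧ z ≠ 1 := by
      have hz' : z = (algebraMap K L (ζ ^ k))⁻¹ := by
        have := hce k
        have hz0 : algebraMap K L (ζ ^ k) ≠ 0 := by
          simp [hζ.ne_zero D.pos.ne']
        simp only [z]
        field_simp
        linear_combination this
      rw [hz']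
      constructor
      · rw [inv_pow, ← map_pow, ← pow_mul, mul_comm, pow_mul, hζ.pow_eq_one, one_pow, map_one, inv_one]
      · rw [Ne, inv_eq_one, ← map_one (algebraMap K L)]
        exact fun h => hζ.pow_ne_one_of_pos_of_lt hk0 hk ((algebraMap K L).injective h)
    let y := (g' * g)⁻¹ (e k)
    have hy : y ≠ 0 := by simp [y, hek]
    have h1 := hcongr g g' y hy
    have e2 : (g' * g) y = e k := by
      simp only [y]; rw [← AlgEquiv.mul_apply, mul_inv_cancel, AlgEquiv.one_apply]
    have e3 : (g * g') y = c (e k) := by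
      simp only [hc_def, y]; rw [← AlgEquiv.mul_apply]
    rw [e2, e3] at h1
    have h2 : W.valuation ((z : Ω) - 1) < 1 := by
      have hy' : (y : Ω) ≠ 0 := by simpa using hy
      have hek' : (e k : Ω) ≠ 0 := by simpa using hek
      have hv : W.valuation ((e k : Ω) / (y : Ω)) = 1 := by rw [← e2]; exact hval _ y hy
      have e4 : (c (e k) : Ω) / (y : Ω) - (e k : Ω) / (y : Ω) = ((z : Ω) - 1) * ((e k : Ω) / (y : Ω)) := by
        simp only [z, IntermediateField.coe_div]
        field_simp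
      rw [e4, map_mul, hv, mul_one] at h1
      exact h1
    refine hz.2 (Subtype.ext (D.root_eq_one ?_ h2))
    exact_mod_cast hz.1
  -- decomposition into eigenvectors
  letI : CommGroup (L ≃ₐ[K] L) := { (inferInstance : Group (L ≃ₐ[K] L)) with mul_comm := hcomm }
  haveI : HasEnoughRootsOfUnity K r := ⟨⟨ζ, hζ⟩, inferInstance⟩
  haveI : NeZero (Monoid.exponent (L ≃ₐ[K] L)) := ⟨Monoid.exponent_ne_zero_of_finite⟩
  haveI : HasEnoughRootsOfUnity K (Monoid.exponent (L ≃ₐ[K] L)) :=
    HasEnoughRootsOfUnity.of_dvd K (Monoid.exponent_dvd_of_forall_pow_eq_one hpow)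
  haveI : Fintype ((L ≃ₐ[K] L) →* Kˣ) := Fintype.ofFinite _
  intro x hx
  let x' : L := ⟨x, hx⟩
  let E : ((L ≃ₐ[K] L) →* Kˣ) → L := fun χ => ∑ g, algebraMap K L (χ g : K) * g x'
  have hsum : ∑ χ, E χ = (r : L) * x' := by
    simp only [E]
    rw [Finset.sum_comm, Finset.sum_eq_single 1]
    · simp only [map_one, Units.val_one, one_mul, AlgEquiv.one_apply, Finset.sum_const, Finset.card_univ,
        nsmul_eq_mul]
      rw [← Nat.card_eq_fintype_card, CommGroup.card_monoidHom_of_hasEnoughRootsOfUnity, hcard]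
    · intro g _ hg
      rw [← Finset.sum_mul, ← map_sum]
      obtain ⟨χ₀, hχ₀⟩ := CommGroup.exists_apply_ne_one_of_hasEnoughRootsOfUnity (L ≃ₐ[K] L) K hg
      have : (χ₀ g : K) * ∑ χ : (L ≃ₐ[K] L) →* Kˣ, (χ g : K) = ∑ χ : (L ≃ₐ[K] L) →* Kˣ, (χ g : K) := by
        rw [Finset.mul_sum]
        exact Fintype.sum_equiv (Equiv.mulLeft χ₀) _ _ fun χ => by simp
      have h0 : ∑ χ : (L ≃ₐ[K] L) →* Kˣ, (χ g : K) = 0 := by
        by_contra h
        exact hχ₀ (Units.ext ((mul_eq_right₀ h).mp this))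
      rw [h0, map_zero, zero_mul]
    · exact fun h => absurd (Finset.mem_univ _) h
  have hE : ∀ χ, (E χ : Ω) ∈ K⟮P⟯ := by
    intro χ
    refine D.mem_adjoin hϖ hP ?_
    have hfix : ∀ g₀, g₀ (E χ) * algebraMap K L (χ g₀ : K) = E χ := by
      intro g₀
      simp only [E, map_sum, map_mul, AlgEquiv.commutes, Finset.sum_mul]
      refine Fintype.sum_equiv (Equiv.mulLeft g₀) _ _ fun g => ?_
      simp only [Equiv.coe_mulLeft, map_mul, Units.val_mul, AlgEquiv.mul_apply]
      ring
    obtain ⟨c, hc⟩ := (IsGalois.mem_range_algebraMap_iff_fixed (F := K) ((E χ) ^ r)).mpr fun g₀ => by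
      rw [map_pow]
      conv_rhs => rw [← hfix g₀]
      rw [mul_pow, ← map_pow (algebraMap K L), ← Units.val_pow_eq_pow_val, ← map_pow χ, hpow, map_one,
        Units.val_one, map_one, mul_one]
    exact ⟨c, by rw [IsScalarTower.algebraMap_apply K L Ω, hc]; rfl⟩
  have hx' : x = (r : Ω)⁻¹ * ∑ χ, (E χ : Ω) := by
    have h' := congrArg (fun t : L => (t : Ω)) hsum
    simp only [IntermediateField.coe_sum] at h'
    rw [h']
    push_cast
    field_simp [D.natCast_ne_zero]
    rfl
  rw [hx']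
  exact mul_mem (inv_mem (_root_.natCast_mem _ r)) (sum_mem fun χ _ => hE χ)

theorem Data.main (D : Data R K Ω W r) [Algebra R Ω] [IsScalarTower R K Ω] :
    (∃! L : IntermediateField K Ω, Module.finrank K L = r ∧ IsGalois K L) ∧
      ∀ L : IntermediateField K Ω, Module.finrank K L = r → IsGalois K L →
        ∀ P : Ideal (integralClosure R L), P.IsMaximal → P.ramificationIdx R = r := by
  classical
  have : IsSepClosed Ω := IsSepClosure.sep_closed K
  haveI : NeZero (r : Ω) := ⟨D.natCast_ne_zero⟩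
  obtain ⟨ϖ, hϖ⟩ := IsDiscreteValuationRing.exists_irreducible R
  obtain ⟨P, hP⟩ := IsSepClosed.exists_pow_nat_eq ((toSep R K Ω) ϖ) r
  have hfr := D.finrank_adjoin hϖ hP
  have huniq : ∀ L : IntermediateField K Ω, Module.finrank K L = r → IsGalois K L → L = K⟮P⟯ := by
    intro L h1 h2
    haveI : FiniteDimensional K K⟮P⟯ := Module.finite_of_finrank_pos (hfr ▸ D.pos)
    exact IntermediateField.eq_of_le_of_finrank_eq (D.le_adjoin hϖ hP L h1) (h1.trans hfr.symm)
  refine ⟨⟨K⟮P⟯, ⟨hfr, D.isGalois_adjoin hϖ hP⟩, fun L hL => huniq L hL.1 hL.2⟩, ?_⟩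
  intro L hfrL hGal Q hQ
  have hL := huniq L hfrL hGal
  haveI : FiniteDimensional K L := Module.finite_of_finrank_pos (hfrL ▸ D.pos)
  haveI : Module.IsTorsionFree R L := by
    rw [Module.isTorsionFree_iff_algebraMap_injective, IsScalarTower.algebraMap_eq R K L]
    exact (algebraMap K L).injective.comp (IsFractionRing.injective R K)
  haveI : Module.Finite R (integralClosure R L) := IsIntegralClosure.finite R K L _
  haveI : Module.Free R (integralClosure R L) := IsIntegralClosure.module_free R K L _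
  haveI : IsDedekindDomain (integralClosure R L) := IsIntegralClosure.isDedekindDomain R K L _
  have hrank : Module.finrank R (integralClosure R L) = r :=
    (IsIntegralClosure.rank R K L _).trans hfrL
  let m := IsLocalRing.maximalIdeal R
  haveI : Q.LiesOver m := ⟨(IsLocalRing.eq_maximalIdeal (Ideal.isMaximal_comap_of_isIntegral_of_isMaximal Q)).symm⟩
  haveI := Fintype.ofFinite (m.primesOver (integralClosure R L))
  have hsum := Ideal.sum_ramification_inertia_eq_finrank m (integralClosure R L)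
  let Q' : m.primesOver (integralClosure R L) := ⟨Q, hQ.isPrime, inferInstance⟩
  have hle : Q.ramificationIdx R ≤ r := by
    have h1 := Finset.single_le_sum (f := fun q : m.primesOver (integralClosure R L) =>
      q.1.ramificationIdx R * q.1.inertiaDeg R) (fun _ _ => Nat.zero_le _) (Finset.mem_univ Q')
    rw [hsum, hrank] at h1
    exact (Nat.le_mul_of_pos_right _ (Ideal.inertiaDeg_pos Q R)).trans h1
  refine le_antisymm hle ?_
  have hPL : P ∈ L := hL ▸ mem_adjoin_simple_self K P
  have hPint : IsIntegral R (⟨P, hPL⟩ : L) := by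
    refine ⟨X ^ r - C ϖ, monic_X_pow_sub_C ϖ D.pos.ne', ?_⟩
    show Polynomial.aeval (⟨P, hPL⟩ : L) (X ^ r - C ϖ : R[X]) = 0
    rw [map_sub, map_pow, aeval_X, aeval_C, sub_eq_zero]
    apply Subtype.ext
    show P ^ r = _
    rw [hP, IsScalarTower.algebraMap_apply R K L]
    rfl
  let p : integralClosure R L := ⟨⟨P, hPL⟩, hPint⟩
  have hp : p ^ r = algebraMap R (integralClosure R L) ϖ := by
    apply Subtype.ext; apply Subtype.ext
    show P ^ r = _
    rw [hP]
    exact (IsScalarTower.algebraMap_apply R K Ω ϖ).symm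
  have hmap : m.map (algebraMap R (integralClosure R L)) = Ideal.span {p ^ r} := by
    rw [show m = Ideal.span {ϖ} from hϖ.maximalIdeal_eq, Ideal.map_span, Set.image_singleton, hp]
  have hne : m.map (algebraMap R (integralClosure R L)) ≠ ⊥ :=
    Ideal.map_ne_bot_of_ne_bot (IsDiscreteValuationRing.not_a_field R)
  rw [Ideal.IsDedekindDomain.ramificationIdx_eq_multiplicity m Q hne]
  refine FiniteMultiplicity.le_multiplicity_of_pow_dvd ?_ ?_
  · have hQ0 : Q ≠ ⊥ := ne_bot_of_le_ne_bot hne (Ideal.map_le_of_le_comap (Q.over_def m).le)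
    exact FiniteMultiplicity.of_prime_left (Ideal.prime_of_isPrime hQ0 hQ.isPrime) hne
  · rw [Ideal.dvd_iff_le, hmap, Ideal.span_singleton_le_iff_mem]
    refine Ideal.pow_mem_pow (hQ.isPrime.mem_of_pow_mem r ?_) r
    rw [hp, ← Ideal.mem_comap]
    exact (Q.over_def m).le (by rw [show m = Ideal.span {ϖ} from hϖ.maximalIdeal_eq]; exact Ideal.mem_span_singleton_self ϖ)

end Groth.Agent.TameKummer
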